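import Mathlib
import Cfsg.Prelude.Def_Perm
import Cfsg.Prelude.Def_KGroupFacts
import Cfsg.Agent.FastGrp
import Cfsg.Agent.Prune
set_option linter.all false
prune_inst 0x7f00000000000000000000000000000000000000000000000000000000000000000000000000000000000000000000000000000000000000000000000000000000000000000000000000000000000000003fffffffffffffffffffffffffffbeffbdffffffff
open scoped Cfsg.Agent.FastGrp

-- part: H454/Reg/Defs
section
/-!
# S3691 (regular subgroups of almost simple primitive groups of large degree): interface and first reduction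

* `Concl B` : the conclusion of S3691 for the group `B`;
* `Ex G T H B` : `T` a nonabelian simple normal subgroup of `G` with trivial centralizer, `H` a maximal subgroup of `G` not
  containing `T`, `B` a complement: `H ⊓ B = 1`, `|H| |B| = |G|`, `|B| > 3 · 29!`, and `2 |T| ≠ |B|!` (the action on the cosets
  of `H` is not the natural action of an alternating group);
* `Row S` : for all `Ex G T H B` with `T ≃* S`: `Concl B`;
* `main_of_rows` : the statement follows from the rows.
-/

set_option autoImplicit false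

namespace Cfsg.Agent.H454.Reg

open Cfsg Subgroup

/-- the conclusion of S3691 -/
def Concl (B : Type*) [Group B] : Prop :=
  (∃ q m : ℕ, IsPrimePow q ∧ Nat.card B * (q - 1) = q ^ m - 1 ∧
      ∃ C : Subgroup B, C.Normal ∧ IsCyclic C ∧ ∀ h : C.Normal, IsCyclic (B ⧸ C)) ∨
  (∃ (F : Type) (_ : Field F) (_ : Fintype F), Fintype.card F % 4 = 3 ∧ 2 * Nat.card B = Fintype.card F * (Fintype.card F - 1) ∧
      ∃ f : B →* Equiv.Perm F, Function.Injective f ∧ f.range ≤ Cfsg.semiaffineGroup F) ∨
  (∃ p : ℕ, p.Prime ∧ (Nonempty (B ≃* alternatingGroup (Fin (p - 2))) ∨ Nonempty (B ≃* Equiv.Perm (Fin (p - 2))) ∨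
      (p % 4 = 1 ∧ Nonempty (B ≃* alternatingGroup (Fin (p - 2)) × Multiplicative (ZMod 2))))) ∨
  (∃ p : ℕ, p.Prime ∧ p % 4 = 3 ∧ Nonempty (B ≃* alternatingGroup (Fin (p ^ 2 - 2))))

/-- an exact factorization of an almost simple group with a maximal factor `H` -/
structure Ex {G : Type*} [Group G] (T H B : Subgroup G) : Prop where
  normal : T.Normal
  simple : IsSimpleGroup T
  nonab : ¬ IsMulCommutative T
  cent : centralizer (T : Set G) = ⊥
  max : IsCoatom H
  not_le : ¬ T ≤ H
  inf : H ⊓ B = ⊥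
  card : Nat.card H * Nat.card B = Nat.card G
  large : 3 * Nat.factorial 29 < Nat.card B
  nat : 2 * Nat.card T ≠ Nat.factorial (Nat.card B)

/-- the row of a simple group `S` -/
def Row (S : Type*) [Group S] : Prop :=
  ∀ {G : Type*} [Group G] [Finite G] (T H B : Subgroup G), Ex T H B → Nonempty (T ≃* S) → Concl B

theorem exists_ex {G Ω : Type*} [Group G] [Finite G] [MulAction G Ω] [FaithfulSMul G Ω] [Fintype Ω] [DecidableEq Ω]
    (N : Subgroup G) (hNn : N.Normal) (hNs : IsSimpleGroup N) (hNa : ¬ IsMulCommutative N)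
    (hNc : Subgroup.centralizer (N : Set G) = ⊥)
    (hprim : MulAction.IsPreprimitive G Ω) (hA : ¬ alternatingGroup Ω ≤ (MulAction.toPermHom G Ω).range)
    (hn : 3 * Nat.factorial 29 < Fintype.card Ω)
    (B : Subgroup G) (hBt : MulAction.IsPretransitive B Ω) (hBr : ∀ ω : Ω, MulAction.stabilizer B ω = ⊥) :
    ∃ H : Subgroup G, Ex N H B := by
  classical
  have hpos : 0 < 3 * Nat.factorial 29 := Nat.mul_pos (by norm_num) (Nat.factorial_pos _)
  have hcard1 : 1 < Fintype.card Ω := lt_of_le_of_lt hpos hn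
  have hnt : Nontrivial Ω := Fintype.one_lt_card_iff_nontrivial.1 hcard1
  obtain ⟨ω, -, -⟩ := exists_pair_ne Ω
  have hcB : Nat.card B = Fintype.card Ω := by
    have h1 := MulAction.index_stabilizer_of_transitive B ω
    rw [hBr ω, Subgroup.index_bot, Nat.card_eq_fintype_card (α := Ω)] at h1
    exact h1
  have hNΩ : ∀ g : G, (∀ x : Ω, g • x = x) → g = 1 := fun g hg =>
    FaithfulSMul.eq_of_smul_eq_smul (M := G) (α := Ω) fun x => by rw [hg x, one_smul]
  have hNne : N ≠ ⊥ := by
    intro h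
    subst h
    exact not_nontrivial _ hNs.toNontrivial
  refine ⟨MulAction.stabilizer G ω, hNn, hNs, hNa, hNc, ?_, ?_, ?_, ?_, ?_, ?_⟩
  · exact (MulAction.isCoatom_stabilizer_iff_preprimitive G ω).2 hprim
  · intro hle
    apply hNne
    rw [Subgroup.eq_bot_iff_forall]
    intro g hg
    refine hNΩ g fun x => ?_
    obtain ⟨k, rfl⟩ := MulAction.exists_smul_eq G ω x
    have h1 : k⁻¹ * g * k ∈ N := by
      have := hNn.conj_mem g hg k⁻¹
      rwa [inv_inv] at this
    have h2 : (k⁻¹ * g * k) • ω = ω := hle h1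
    rw [mul_smul, mul_smul] at h2
    exact (inv_smul_eq_iff.1 h2)
  · rw [Subgroup.eq_bot_iff_forall]
    rintro g ⟨hg1, hg2⟩
    have h1 : (⟨g, hg2⟩ : B) ∈ MulAction.stabilizer B ω := hg1
    rw [hBr ω, Subgroup.mem_bot] at h1
    exact congrArg Subtype.val h1
  · have h1 := MulAction.index_stabilizer_of_transitive G ω
    rw [hcB, ← Nat.card_eq_fintype_card (α := Ω), ← h1]
    exact Subgroup.card_mul_index _
  · rw [hcB]; exact hn
  · intro hfac
    apply hA
    rw [hcB] at hfac
    -- the image of `N` has index two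
    set f := MulAction.toPermHom G Ω with hf
    have hinj : Function.Injective f := MulAction.toPerm_injective
    have hc : Nat.card (N.map f) = Nat.card N := Subgroup.card_map_of_injective hinj
    have hidx : (N.map f).index = 2 := by
      have h1 := (N.map f).card_mul_index
      rw [hc, Nat.card_eq_fintype_card (α := Equiv.Perm Ω), Fintype.card_perm, ← hfac, mul_comm 2] at h1
      exact Nat.eq_of_mul_eq_mul_left Nat.card_pos h1
    have h2 : N.map f = alternatingGroup Ω := by
      have := Equiv.Perm.eq_alternatingGroup_of_index_eq_two hidx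
      exact this
    rw [← h2]
    exact Subgroup.map_le_range f N

end Cfsg.Agent.H454.Reg
end

-- part: H454/Reg/Tools
section
/-!
# S3691: exact factorizations of almost simple groups, elementary facts

`Fac T X Y`: `T` normal nonabelian simple in `G`, `C_G(T) = 1`, `X`, `Y` do not contain `T`, `X ⊓ Y = 1`, `|X| |Y| = |G|`.

* `Fac.symm`, `Fac.conj` : symmetric; `(X ^ g, Y ^ h)` is again a factorization
* `Fac.exists_mul` : `G = X Y`;  `Fac.not_conj`, `Fac.inf_conj` : no nontrivial element of `X` is conjugate to an element of `Y`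
* `index_dvd_out` : `|G : T|` divides `|Out T|`
* `Fac.card0` : `|X ∩ T| |Y ∩ T| e = |T|` with `e ∣ |G : T|`, `e ∣ |Out T|`
* `Fac.val_le`, `Fac.val_ge`, `Fac.val_eq`, `Fac.prime_dvd` : the prime parts
* `Fac.not_both` : a prime with cyclic Sylow subgroups of `T` cannot divide both `|X ∩ T|` and `|Y ∩ T|`
* `Ex.card_mul` : `|H ∩ T| |B| = |T|`
* `Ex.fac` : `Ex T H B → ¬ T ≤ B → Fac T H B`; `Ex.not_le_right_of` : `¬ T ≤ B` from S5758 and S4124 (instantiated in
  `H454/Reg/NotLe.lean`: `Ex.not_le_right`, `Ex.toFac`)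
-/

set_option autoImplicit false

namespace Cfsg.Agent.H454.Reg

open Cfsg Subgroup

universe u

/-- an exact factorization of an almost simple group with socle `T`; symmetric in `X` and `Y` -/
structure Fac {G : Type*} [Group G] (T X Y : Subgroup G) : Prop where
  normal : T.Normal
  simple : IsSimpleGroup T
  nonab : ¬ IsMulCommutative T
  cent : centralizer (T : Set G) = ⊥
  not_le_left : ¬ T ≤ X
  not_le_right : ¬ T ≤ Y
  inf : X ⊓ Y = ⊥
  card : Nat.card X * Nat.card Y = Nat.card G
  large : 3 * Nat.factorial 29 < Nat.card T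

section general

variable {G : Type u} [Group G]

/-- `|X ∩ T| |X T / T| = |X|` -/
theorem card_subgroupOf_mul [Finite G] (T X : Subgroup G) [T.Normal] :
    Nat.card (X.subgroupOf T) * Nat.card (X.map (QuotientGroup.mk' T)) = Nat.card X := by
  have h1 : Nat.card (T.subgroupOf X) * T.relIndex X = Nat.card X := Subgroup.card_mul_index _
  have h2 : T.relIndex X = Nat.card (X.map (QuotientGroup.mk' T)) := by
    have := Subgroup.relIndex_ker (QuotientGroup.mk' T) (K := X)
    rw [QuotientGroup.ker_mk'] at this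
    rw [this]
  have h3 : Nat.card (X.subgroupOf T) = Nat.card (T.subgroupOf X) := by
    rw [← Subgroup.inf_subgroupOf_right X T, ← Subgroup.inf_subgroupOf_right T X,
      Nat.card_congr (Subgroup.subgroupOfEquivOfLe (inf_le_right : X ⊓ T ≤ T)).toEquiv,
      Nat.card_congr (Subgroup.subgroupOfEquivOfLe (inf_le_right : T ⊓ X ≤ X)).toEquiv, inf_comm]
  rw [h3, ← h2, h1]

theorem card_subgroupOf (T X : Subgroup G) : Nat.card (X.subgroupOf T) = Nat.card (X ⊓ T : Subgroup G) := by
  rw [← Subgroup.inf_subgroupOf_right X T,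
    Nat.card_congr (Subgroup.subgroupOfEquivOfLe (inf_le_right : X ⊓ T ≤ T)).toEquiv]

/-- `|H ∩ T| |G : H| = |T|` if `H T = G` -/
theorem card_subgroupOf_mul_index [Finite G] {T H : Subgroup G} (h : H ⊔ T = ⊤) [T.Normal] :
    Nat.card (H.subgroupOf T) * H.index = Nat.card T := by
  have h0 := card_subgroupOf_mul T H
  have h1 : H.map (QuotientGroup.mk' T) = ⊤ := by
    have : (H ⊔ T).map (QuotientGroup.mk' T) = ⊤ := by
      rw [h]
      exact Subgroup.map_top_of_surjective _ (QuotientGroup.mk'_surjective T)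
    rw [Subgroup.map_sup, (Subgroup.map_eq_bot_iff (f := QuotientGroup.mk' T) T).2 (by rw [QuotientGroup.ker_mk']), sup_bot_eq] at this
    exact this
  rw [h1, Subgroup.card_top] at h0
  have h2 : Nat.card T * Nat.card (G ⧸ T) = Nat.card G := Subgroup.card_mul_index T
  have h3 := H.card_mul_index
  have h4 : 0 < Nat.card (G ⧸ T) := Nat.card_pos
  apply Nat.eq_of_mul_eq_mul_right h4
  rw [h2, ← h3, ← h0]
  ring

/-- the kernel of `G → Out T` is `T` if `C_G(T) = 1` -/
theorem exists_embed_out (T : Subgroup G) [hT : T.Normal] (hc : centralizer (T : Set G) = ⊥) :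
    ∃ f : G ⧸ T →* Out T, Function.Injective f := by
  let f0 : G →* MulAut T := MulAut.conjNormal
  have hf0 : Function.Injective f0 := by
    rw [injective_iff_map_eq_one]
    intro g hg
    have : g ∈ centralizer (T : Set G) := by
      rw [Subgroup.mem_centralizer_iff]
      intro t ht
      have h1 : (f0 g ⟨t, ht⟩ : G) = t := by rw [hg]; rfl
      rw [MulAut.conjNormal_apply] at h1
      exact (mul_inv_eq_iff_eq_mul.1 h1).symm
    rw [hc] at this
    exact this
  have hle : T ≤ (((QuotientGroup.mk' (Inn T)).comp f0)).ker := by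
    intro t ht
    rw [MonoidHom.mem_ker]
    change QuotientGroup.mk' (Inn T) (f0 t) = 1
    rw [← MonoidHom.mem_ker, QuotientGroup.ker_mk']
    refine ⟨⟨t, ht⟩, ?_⟩
    ext s
    simp only [f0, _root_.MulAut.conj_apply, _root_.Subgroup.coe_mul, _root_.InvMemClass.coe_inv, _root_.MulAut.conjNormal_apply]
  refine ⟨QuotientGroup.lift T ((QuotientGroup.mk' (Inn T)).comp f0) hle, ?_⟩
  rw [injective_iff_map_eq_one]
  intro q
  obtain ⟨g, rfl⟩ := QuotientGroup.mk_surjective q
  intro hq
  have h1 : (QuotientGroup.mk' (Inn T)) (f0 g) = 1 := hq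
  rw [← MonoidHom.mem_ker, QuotientGroup.ker_mk'] at h1
  obtain ⟨t, ht⟩ := h1
  have h2 : g = t := by
    apply hf0
    rw [← ht]
    ext s
    simp only [f0, _root_.MulAut.conj_apply, _root_.Subgroup.coe_mul, _root_.InvMemClass.coe_inv, _root_.MulAut.conjNormal_apply]
  rw [QuotientGroup.eq_one_iff, h2]
  exact t.2

theorem index_dvd_out [Finite G] (T : Subgroup G) [hT : T.Normal] (hc : centralizer (T : Set G) = ⊥) :
    T.index ∣ Nat.card (Out T) := by
  obtain ⟨f, hf⟩ := exists_embed_out T hc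
  have h1 : T.index = Nat.card f.range := by
    rw [Subgroup.index]
    exact Nat.card_congr (MonoidHom.ofInjective hf).toEquiv
  rw [h1]
  exact Subgroup.card_subgroup_dvd_card _

/-- in a cyclic group, `b ∈ ⟨a⟩` if `b ^ |a| = 1` -/
theorem mem_zpowers_of_pow_orderOf {C : Type*} [Group C] [Finite C] [IsCyclic C] (a b : C) (h : b ^ orderOf a = 1) :
    b ∈ zpowers a := by
  classical
  have := Fintype.ofFinite C
  have h1 := IsCyclic.card_pow_eq_one_le (α := C) (n := orderOf a) (orderOf_pos a)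
  have h2 : (Finset.univ.filter fun z : C => z ∈ zpowers a) ⊆ Finset.univ.filter fun z : C => z ^ orderOf a = 1 := by
    intro z hz
    rw [Finset.mem_filter] at hz ⊢
    refine ⟨Finset.mem_univ _, ?_⟩
    obtain ⟨k, hk⟩ := hz.2
    simp only at hk
    rw [← hk, ← zpow_natCast, ← zpow_mul, mul_comm, zpow_mul, zpow_natCast, pow_orderOf_eq_one, one_zpow]
  have h3 : (Finset.univ.filter fun z : C => z ∈ zpowers a).card = orderOf a := by
    rw [← Nat.card_zpowers, Nat.card_eq_fintype_card, Fintype.card_subtype]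
  have h4 := Finset.eq_of_subset_of_card_le h2 (by rw [h3]; exact h1)
  have h5 : b ∈ Finset.univ.filter fun z : C => z ^ orderOf a = 1 := by
    rw [Finset.mem_filter]; exact ⟨Finset.mem_univ _, h⟩
  rw [← h4, Finset.mem_filter] at h5
  exact h5.2

end general

namespace Fac

variable {G : Type u} [Group G] {T X Y : Subgroup G}

theorem symm (h : Fac T X Y) : Fac T Y X :=
  ⟨h.normal, h.simple, h.nonab, h.cent, h.not_le_right, h.not_le_left, by rw [inf_comm]; exact h.inf,
    by rw [mul_comm]; exact h.card, h.large⟩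

/-- `G = X Y` -/
theorem exists_mul [Finite G] (h : Fac T X Y) (g : G) : ∃ x ∈ X, ∃ y ∈ Y, x * y = g := by
  have hinj : Function.Injective (fun z : X × Y => (z.1 : G) * (z.2 : G)) := by
    rintro ⟨a, b⟩ ⟨c, d⟩ hab
    simp only at hab
    have h1 : (c : G)⁻¹ * a = d * (b : G)⁻¹ := by
      rw [inv_mul_eq_iff_eq_mul, ← mul_assoc, ← hab, mul_inv_cancel_right]
    have h2 : (c : G)⁻¹ * a ∈ X ⊓ Y :=
      ⟨X.mul_mem (X.inv_mem c.2) a.2, by rw [h1]; exact Y.mul_mem d.2 (Y.inv_mem b.2)⟩
    rw [h.inf, Subgroup.mem_bot] at h2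
    have h3 : (a : G) = c := (inv_mul_eq_one.1 h2).symm
    have h4 : (b : G) = d := by
      rw [h1] at h2
      exact (mul_inv_eq_one.1 h2).symm
    ext
    · exact h3
    · exact h4
  have hbij : Function.Bijective (fun z : X × Y => (z.1 : G) * (z.2 : G)) := by
    have : Finite (X × Y) := inferInstance
    rw [Nat.bijective_iff_injective_and_card]
    exact ⟨hinj, by rw [Nat.card_prod]; exact h.card⟩
  obtain ⟨⟨x, y⟩, hxy⟩ := hbij.2 g
  exact ⟨x, x.2, y, y.2, hxy⟩

/-- no nontrivial element of `X` is conjugate to an element of `Y` -/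
theorem not_conj [Finite G] (h : Fac T X Y) {x : G} (hx : x ∈ X) (g : G) (hy : g * x * g⁻¹ ∈ Y) : x = 1 := by
  obtain ⟨a, ha, b, hb, hab⟩ := h.exists_mul g⁻¹
  -- `g = b⁻¹ a⁻¹`, so `a⁻¹ x a = b y b⁻¹`
  have hg : g = b⁻¹ * a⁻¹ := by rw [← mul_inv_rev, hab, inv_inv]
  have h1 : a⁻¹ * x * a ∈ X ⊓ Y := by
    refine ⟨X.mul_mem (X.mul_mem (X.inv_mem ha) hx) ha, ?_⟩
    have : a⁻¹ * x * a = b * (g * x * g⁻¹) * b⁻¹ := by
      rw [hg]; group
    rw [this]
    exact Y.mul_mem (Y.mul_mem hb hy) (Y.inv_mem hb)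
  rw [h.inf, Subgroup.mem_bot] at h1
  have h2 : x = a * (a⁻¹ * x * a) * a⁻¹ := by group
  rw [h2, h1]; group

/-- conjugating the factors -/
theorem conj_right [Finite G] (h : Fac T X Y) (g : G) : Fac T X (Y.map (MulAut.conj g).toMonoidHom) where
  normal := h.normal
  simple := h.simple
  nonab := h.nonab
  cent := h.cent
  not_le_left := h.not_le_left
  not_le_right := by
    intro hle
    apply h.not_le_right
    intro t ht
    have h1 : g * t * g⁻¹ ∈ Y.map (MulAut.conj g).toMonoidHom := hle (h.normal.conj_mem t ht g)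
    obtain ⟨y, hy, hyt⟩ := h1
    have h2 : y = t := (MulAut.conj g).injective (by simpa only [_root_.MulAut.conj_apply, _root_.mul_left_inj, _root_.mul_right_inj, _root_.MulEquiv.toMonoidHom_eq_coe, _root_.MonoidHom.coe_coe] using hyt)
    rw [← h2]; exact hy
  inf := by
    rw [Subgroup.eq_bot_iff_forall]
    rintro x ⟨hx, y, hy, rfl⟩
    have : y = 1 := h.symm.not_conj hy g (by simpa using hx)
    rw [this, map_one]
  card := by
    rw [Subgroup.card_map_of_injective (MulAut.conj g).injective]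
    exact h.card
  large := h.large

theorem conj_left [Finite G] (h : Fac T X Y) (g : G) : Fac T (X.map (MulAut.conj g).toMonoidHom) Y :=
  (h.symm.conj_right g).symm

theorem conj [Finite G] (h : Fac T X Y) (g k : G) :
    Fac T (X.map (MulAut.conj g).toMonoidHom) (Y.map (MulAut.conj k).toMonoidHom) :=
  (h.conj_left g).conj_right k

/-- `|X ∩ T| |Y ∩ T| e = |T|` with `e = |X T / T ∩ Y T / T|` -/
theorem card0 [Finite G] (h : Fac T X Y) : ∃ e : ℕ, e ∣ T.index ∧ e ∣ Nat.card (Out T) ∧
    Nat.card (X.subgroupOf T) * Nat.card (Y.subgroupOf T) * e = Nat.card T := by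
  have := h.normal
  set X1 := X.map (QuotientGroup.mk' T) with hX1
  set Y1 := Y.map (QuotientGroup.mk' T) with hY1
  have h1 := card_subgroupOf_mul T X
  have h2 := card_subgroupOf_mul T Y
  rw [← hX1] at h1
  rw [← hY1] at h2
  have hprod : ∀ q : G ⧸ T, ∃ a ∈ X1, ∃ b ∈ Y1, a * b = q := by
    intro q
    obtain ⟨g, rfl⟩ := QuotientGroup.mk_surjective q
    obtain ⟨x, hx, y, hy, hxy⟩ := h.exists_mul g
    exact ⟨(x : G ⧸ T), ⟨x, hx, rfl⟩, (y : G ⧸ T), ⟨y, hy, rfl⟩, by rw [← hxy]; rfl⟩
  -- `|X1| |Y1| = |G/T| |X1 ∩ Y1|`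
  have h3 : Nat.card X1 * Nat.card Y1 = Nat.card (G ⧸ T) * Nat.card (X1 ⊓ Y1 : Subgroup (G ⧸ T)) := by
    have h6 : Y1.relIndex X1 * Nat.card (X1 ⊓ Y1 : Subgroup (G ⧸ T)) = Nat.card X1 := by
      rw [mul_comm, inf_comm, ← card_subgroupOf X1 Y1]
      exact Subgroup.card_mul_index _
    have h7 : Y1.relIndex X1 = Y1.index := by
      have htr : MulAction.IsPretransitive X1 ((G ⧸ T) ⧸ Y1) := by
        refine (MulAction.isPretransitive_iff_base (((1 : G ⧸ T) : (G ⧸ T) ⧸ Y1))).2 fun z => ?_
        obtain ⟨q, rfl⟩ := QuotientGroup.mk_surjective z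
        obtain ⟨a, ha, b, hb, hab⟩ := hprod q
        refine ⟨⟨a, ha⟩, ?_⟩
        change ((a * 1 : G ⧸ T) : (G ⧸ T) ⧸ Y1) = _
        rw [mul_one, QuotientGroup.eq, ← hab, inv_mul_cancel_left]
        exact hb
      have h4 := MulAction.index_stabilizer_of_transitive X1 (((1 : G ⧸ T) : (G ⧸ T) ⧸ Y1))
      have h5 : MulAction.stabilizer X1 (((1 : G ⧸ T) : (G ⧸ T) ⧸ Y1)) = Y1.subgroupOf X1 := by
        ext a
        rw [MulAction.mem_stabilizer_iff, Subgroup.mem_subgroupOf]
        change (((a : G ⧸ T) * 1 : G ⧸ T) : (G ⧸ T) ⧸ Y1) = _ ↔ _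
        rw [mul_one, eq_comm, QuotientGroup.eq, inv_one, one_mul]
      rw [h5] at h4
      exact h4
    rw [← h6, h7, ← Y1.card_mul_index]
    ring
  refine ⟨Nat.card (X1 ⊓ Y1 : Subgroup (G ⧸ T)), Subgroup.card_subgroup_dvd_card _,
    (Subgroup.card_subgroup_dvd_card _).trans (index_dvd_out T h.cent), ?_⟩
  have hpos : 0 < Nat.card (G ⧸ T) := Nat.card_pos
  apply Nat.eq_of_mul_eq_mul_right hpos
  have h8 : Nat.card T * Nat.card (G ⧸ T) = Nat.card G := T.card_mul_index
  rw [h8, ← h.card, ← h1, ← h2]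
  calc Nat.card (X.subgroupOf T) * Nat.card (Y.subgroupOf T) * Nat.card (X1 ⊓ Y1 : Subgroup (G ⧸ T)) * Nat.card (G ⧸ T)
      = Nat.card (X.subgroupOf T) * Nat.card (Y.subgroupOf T) * (Nat.card (G ⧸ T) * Nat.card (X1 ⊓ Y1 : Subgroup (G ⧸ T))) := by ring
    _ = _ := by rw [← h3]; ring

theorem val_le [Finite G] (h : Fac T X Y) (r : ℕ) :
    (Nat.card (X.subgroupOf T)).factorization r + (Nat.card (Y.subgroupOf T)).factorization r ≤
      (Nat.card T).factorization r := by
  obtain ⟨e, -, -, he⟩ := h.card0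
  have he0 : e ≠ 0 := by
    rintro rfl
    rw [mul_zero] at he
    exact Nat.card_pos.ne he
  have h1 : Nat.card (X.subgroupOf T) ≠ 0 := Nat.card_pos.ne'
  have h2 : Nat.card (Y.subgroupOf T) ≠ 0 := Nat.card_pos.ne'
  rw [← he, Nat.factorization_mul (mul_ne_zero h1 h2) he0, Nat.factorization_mul h1 h2]
  simp only [Finsupp.add_apply]
  omega

theorem val_ge [Finite G] (h : Fac T X Y) (r : ℕ) :
    (Nat.card T).factorization r ≤ (Nat.card (X.subgroupOf T)).factorization r +
      (Nat.card (Y.subgroupOf T)).factorization r + (Nat.card (Out T)).factorization r := by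
  obtain ⟨e, -, hd, he⟩ := h.card0
  have he0 : e ≠ 0 := by
    rintro rfl
    rw [mul_zero] at he
    exact Nat.card_pos.ne he
  have h1 : Nat.card (X.subgroupOf T) ≠ 0 := Nat.card_pos.ne'
  have h2 : Nat.card (Y.subgroupOf T) ≠ 0 := Nat.card_pos.ne'
  have h3 : e.factorization r ≤ (Nat.card (Out T)).factorization r :=
    (Nat.factorization_le_iff_dvd he0 Nat.card_pos.ne').2 hd r
  rw [← he, Nat.factorization_mul (mul_ne_zero h1 h2) he0, Nat.factorization_mul h1 h2]
  simp only [Finsupp.add_apply]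
  omega

theorem val_eq [Finite G] (h : Fac T X Y) {r : ℕ} (hr : ¬ r ∣ Nat.card (Out T)) :
    (Nat.card (X.subgroupOf T)).factorization r + (Nat.card (Y.subgroupOf T)).factorization r =
      (Nat.card T).factorization r := by
  have h1 := h.val_le r
  have h2 := h.val_ge r
  rw [Nat.factorization_eq_zero_of_not_dvd hr] at h2
  omega

/-- a prime divisor of `|T|` prime to `|Out T|` divides one of the factors -/
theorem prime_dvd [Finite G] (h : Fac T X Y) {r : ℕ} (hp : r.Prime) (hrT : r ∣ Nat.card T) (hr : ¬ r ∣ Nat.card (Out T)) :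
    r ∣ Nat.card (X.subgroupOf T) ∨ r ∣ Nat.card (Y.subgroupOf T) := by
  obtain ⟨e, -, hd, he⟩ := h.card0
  rw [← he, hp.dvd_mul, hp.dvd_mul] at hrT
  rcases hrT with h1 | h1
  · exact h1
  · exact absurd (h1.trans hd) hr

/-- a prime with cyclic Sylow subgroups of `T` cannot divide both `|X ∩ T|` and `|Y ∩ T|` -/
theorem not_both [Finite G] (h : Fac T X Y) {r : ℕ} (hp : r.Prime)
    (hcyc : ∀ P : Subgroup T, IsPGroup r P → IsCyclic P)
    (hX : r ∣ Nat.card (X.subgroupOf T)) (hY : r ∣ Nat.card (Y.subgroupOf T)) : False := by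
  have := Fact.mk hp
  obtain ⟨a, ha⟩ := exists_prime_orderOf_dvd_card' r hX
  obtain ⟨b, hb⟩ := exists_prime_orderOf_dvd_card' r hY
  have ha' : orderOf (a : T) = r := by rw [Subgroup.orderOf_coe]; exact ha
  have hb' : orderOf (b : T) = r := by rw [Subgroup.orderOf_coe]; exact hb
  have hpg : ∀ x : T, orderOf x = r → IsPGroup r (zpowers x) := fun x hx => by
    rw [IsPGroup.iff_card]
    exact ⟨1, by rw [Nat.card_zpowers, hx, pow_one]⟩
  obtain ⟨P, hP⟩ := (hpg _ ha').exists_le_sylow
  obtain ⟨Q, hQ⟩ := (hpg _ hb').exists_le_sylow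
  obtain ⟨g, hg⟩ := MulAction.exists_smul_eq T Q P
  have h1 : g * (b : T) * g⁻¹ ∈ P := by
    rw [← hg]
    exact Subgroup.smul_mem_pointwise_smul (b : T) (MulAut.conj g) (Q : Subgroup T) (hQ (mem_zpowers _))
  have h2 : orderOf (g * (b : T) * g⁻¹) = r := by
    rw [← hb']
    simpa only [_root_.orderOf_submonoid, _root_.MulEquiv.toMonoidHom_eq_coe, _root_.MonoidHom.coe_coe, _root_.MulAut.conj_apply] using orderOf_injective (MulAut.conj g).toMonoidHom (MulAut.conj g).injective (b : T)
  have h3 : (a : T) ∈ P := hP (mem_zpowers _)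
  have hcP : IsCyclic P := hcyc _ P.2
  have h5 : (⟨g * (b : T) * g⁻¹, h1⟩ : P) ∈ zpowers (⟨(a : T), h3⟩ : P) := by
    refine mem_zpowers_of_pow_orderOf _ _ ?_
    rw [← Subgroup.orderOf_coe]
    change (⟨g * (b : T) * g⁻¹, h1⟩ : P) ^ orderOf (a : T) = 1
    rw [ha'.trans h2.symm]
    exact Subtype.ext (by rw [SubmonoidClass.coe_pow]; exact pow_orderOf_eq_one _)
  obtain ⟨k, hk⟩ := h5
  have h6 : (a : T) ^ k = g * (b : T) * g⁻¹ := congrArg Subtype.val hk
  have h7 : (((b : T) : G)) = 1 := by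
    refine h.symm.not_conj b.2 (g : G) ?_
    have h8 : (((a : T) ^ k : T) : G) = (g : G) * ((b : T) : G) * (g : G)⁻¹ := by rw [h6]; rfl
    rw [← h8]
    exact X.zpow_mem (x := ((a : T) : G)) a.2 k
  have h8 : orderOf (b : T) = 1 := by
    rw [orderOf_eq_one_iff]
    exact Subtype.ext h7
  rw [hb'] at h8
  exact hp.ne_one h8

theorem ne_top_left (h : Fac T X Y) : X.subgroupOf T ≠ ⊤ := fun h1 => h.not_le_left (Subgroup.subgroupOf_eq_top.1 h1)

theorem ne_top_right (h : Fac T X Y) : Y.subgroupOf T ≠ ⊤ := h.symm.ne_top_left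

end Fac

namespace Ex

variable {G : Type u} [Group G] {T H B : Subgroup G}

theorem sup_eq (h : Ex T H B) : H ⊔ T = ⊤ := by
  have h1 := h.max
  exact h1.2 _ (lt_of_le_of_ne le_sup_left fun he => h.not_le (by rw [he]; exact le_sup_right))

theorem index_eq [Finite G] (h : Ex T H B) : H.index = Nat.card B := by
  have h1 := H.card_mul_index
  rw [← h.card] at h1
  exact Nat.eq_of_mul_eq_mul_left Nat.card_pos h1

/-- `|H ∩ T| |B| = |T|` -/
theorem card_mul [Finite G] (h : Ex T H B) : Nat.card (H.subgroupOf T) * Nat.card B = Nat.card T := by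
  have := h.normal
  rw [← h.index_eq]
  exact card_subgroupOf_mul_index h.sup_eq

theorem card_dvd [Finite G] (h : Ex T H B) : Nat.card B ∣ Nat.card T := ⟨_, by rw [mul_comm]; exact h.card_mul.symm⟩

theorem card_le [Finite G] (h : Ex T H B) : Nat.card B ≤ Nat.card T := Nat.le_of_dvd Nat.card_pos h.card_dvd

theorem large_socle [Finite G] (h : Ex T H B) : 3 * Nat.factorial 29 < Nat.card T := h.large.trans_le h.card_le

theorem fac [Finite G] (h : Ex T H B) (h0 : ¬ T ≤ B) : Fac T H B :=
  ⟨h.normal, h.simple, h.nonab, h.cent, h.not_le, h0, h.inf, h.card, h.large_socle⟩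

/-- E0, with the two inputs (S5758 and S4124) as hypotheses: `T` is not contained in the complement `B` of `H` -/
theorem not_le_right_of [Finite G] (h : Ex T H B) (hout : Group.IsSolvable (Out T))
    (hfpf : ∀ (A : Type u) [Group A] [Finite A] [MulDistribMulAction A T] [FaithfulSMul A T], Group.IsNilpotent A →
      (∀ g : T, (∀ a : A, a • g = g) → g = 1) → Group.IsSolvable T) : ¬ T ≤ B := by
  intro hTB
  have hTn := h.normal
  have hTs := h.simple
  have hTns : ¬ Group.IsSolvable T := by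
    intro hs
    apply h.nonab
    refine ⟨⟨fun a b => ?_⟩⟩
    exact IsSimpleGroup.comm_iff_isSolvable.2 hs a b
  -- `H ∩ T = 1`
  have hHT : H ⊓ T = ⊥ := by
    rw [eq_bot_iff, ← h.inf]
    exact inf_le_inf_left _ hTB
  have hsup := h.sup_eq
  -- `H` is solvable
  have hHsolv : Group.IsSolvable H := by
    obtain ⟨f, hf⟩ := exists_embed_out T h.cent
    have h1 : Function.Injective ((f.comp (QuotientGroup.mk' T)).comp H.subtype) := by
      rw [injective_iff_map_eq_one]
      intro x hx
      have h2 : f (QuotientGroup.mk' T (x : G)) = 1 := hx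
      have h3 : (QuotientGroup.mk' T (x : G)) = 1 := hf (by rw [h2, map_one])
      have h4 : (x : G) ∈ T := by
        rw [← MonoidHom.mem_ker, QuotientGroup.ker_mk'] at h3; exact h3
      have h5 : (x : G) ∈ H ⊓ T := ⟨x.2, h4⟩
      rw [hHT, Subgroup.mem_bot] at h5
      exact Subtype.ext h5
    exact Group.isSolvable_of_isSolvable_injective h1
  -- `H` is not trivial
  have hHne : Nontrivial H := by
    by_contra hnt
    rw [Subgroup.nontrivial_iff_ne_bot, not_not] at hnt
    -- every proper subgroup is trivial, so `T` is cyclic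
    obtain ⟨t, ht⟩ := exists_ne (1 : T)
    have h1 : zpowers (t : G) = ⊤ := by
      have h2 : H < zpowers (t : G) := by
        rw [hnt, bot_lt_iff_ne_bot, Ne, zpowers_eq_bot]
        exact fun he => ht (Subtype.ext he)
      exact h.max.2 _ h2
    apply h.nonab
    refine ⟨⟨fun a b => Subtype.ext ?_⟩⟩
    have ha : (a : G) ∈ zpowers (t : G) := by rw [h1]; trivial
    have hb : (b : G) ∈ zpowers (t : G) := by rw [h1]; trivial
    obtain ⟨m, hm⟩ := ha
    obtain ⟨n, hn⟩ := hb
    simp only at hm hn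
    change (a : G) * b = b * a
    rw [← hm, ← hn, ← zpow_add, ← zpow_add, add_comm]
  -- a nontrivial abelian normal subgroup of `H`
  obtain ⟨A0, hA0n, hA0c, hA0ne⟩ : ∃ A : Subgroup H, A.Normal ∧ (∀ a ∈ A, ∀ b ∈ A, a * b = b * a) ∧ A ≠ ⊥ := by
    obtain ⟨n, hn⟩ := (Group.isSolvable_def H).1 hHsolv
    classical
    have hex : ∃ n, derivedSeries H n = ⊥ := ⟨n, hn⟩
    have hm := Nat.find_spec hex
    have hm0 : Nat.find hex ≠ 0 := by
      intro h0
      rw [h0, derivedSeries_zero] at hm
      exact (Subgroup.nontrivial_iff_ne_bot _).1 (by rw [← hm] at *; infer_instance) rfl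
    obtain ⟨k, hk⟩ := Nat.exists_eq_succ_of_ne_zero hm0
    have hkne : derivedSeries H k ≠ ⊥ := fun h1 => by
      have := Nat.find_min' hex h1
      omega
    refine ⟨derivedSeries H k, derivedSeries_normal H k, ?_, hkne⟩
    rw [hk, Nat.succ_eq_add_one, derivedSeries_succ, Subgroup.commutator_eq_bot_iff_le_centralizer] at hm
    intro a ha b hb
    exact ((Subgroup.mem_centralizer_iff.1 (hm ha)) b hb).symm
  set A : Subgroup G := A0.map H.subtype with hA
  have hAH : A ≤ H := Subgroup.map_subtype_le _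
  have hAne : A ≠ ⊥ := fun h1 => hA0ne ((Subgroup.map_eq_bot_iff_of_injective _ H.subtype_injective).1 h1)
  have hAcomm : ∀ a ∈ A, ∀ b ∈ A, a * b = b * a := by
    rintro _ ⟨a, ha, rfl⟩ _ ⟨b, hb, rfl⟩
    exact congrArg Subtype.val (hA0c a ha b hb)
  have hAnorm : ∀ x ∈ H, ∀ a ∈ A, x * a * x⁻¹ ∈ A := by
    rintro x hx _ ⟨a, ha, rfl⟩
    exact ⟨(⟨x, hx⟩ : H) * a * (⟨x, hx⟩ : H)⁻¹, hA0n.conj_mem a ha ⟨x, hx⟩, rfl⟩
  -- `C_T(A)` is normalised by `H`
  set C : Subgroup G := centralizer (A : Set G) ⊓ T with hC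
  have hCn : H ≤ normalizer (C : Set G) := by
    intro x hx
    rw [Subgroup.mem_normalizer_iff]
    have key : ∀ x ∈ H, ∀ y ∈ C, x * y * x⁻¹ ∈ C := by
      rintro x hx y ⟨hy1, hy2⟩
      refine ⟨?_, hTn.conj_mem y hy2 x⟩
      change x * y * x⁻¹ ∈ centralizer (A : Set G)
      rw [Subgroup.mem_centralizer_iff]
      intro a ha
      have h1 : x⁻¹ * a * x ∈ A := by
        have := hAnorm x⁻¹ (H.inv_mem hx) a ha
        rwa [inv_inv] at this
      have h2 := (Subgroup.mem_centralizer_iff.1 hy1) _ h1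
      have h3 : a * (x * y * x⁻¹) = x * ((x⁻¹ * a * x) * y) * x⁻¹ := by group
      rw [h3, h2]
      group
    intro y
    refine ⟨key x hx y, fun hy => ?_⟩
    have h1 := key x⁻¹ (H.inv_mem hx) _ hy
    have h2 : x⁻¹ * (x * y * x⁻¹) * x⁻¹⁻¹ = y := by group
    rwa [h2] at h1
  have hCbot : C = ⊥ := by
    by_contra hCne
    -- `H ⊔ C = ⊤`
    have h1 : H ⊔ C = ⊤ := by
      refine h.max.2 _ (lt_of_le_of_ne le_sup_left fun he => hCne ?_)
      have h2 : C ≤ H := by rw [he]; exact le_sup_right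
      rw [eq_bot_iff, ← hHT]
      exact le_inf h2 inf_le_right
    -- so `C = T`
    have h2 : T ≤ C := by
      intro t ht
      have h3 : t ∈ H ⊔ C := by rw [h1]; trivial
      rw [← SetLike.mem_coe, Subgroup.coe_mul_of_left_le_normalizer_right _ _ hCn] at h3
      obtain ⟨x, hx, c, hc, rfl⟩ := h3
      have hc2 : c ∈ T := hc.2
      have h4 : x ∈ H ⊓ T := ⟨hx, by
        have := T.mul_mem ht (T.inv_mem hc2)
        rwa [mul_inv_cancel_right] at this⟩
      rw [hHT, Subgroup.mem_bot] at h4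
      change x * c ∈ C
      rw [h4, one_mul]; exact hc
    apply hAne
    rw [eq_bot_iff, ← h.cent]
    intro a ha
    rw [Subgroup.mem_centralizer_iff]
    intro t ht
    exact ((Subgroup.mem_centralizer_iff.1 (h2 ht).1) a ha).symm
  -- `A` acts on `T` by conjugation
  let f : A →* MulAut T := (MulAut.conjNormal (H := T)).comp A.subtype
  let act : MulDistribMulAction A T := MulDistribMulAction.compHom T f
  have hsm : ∀ (a : A) (t : T), ((a • t : T) : G) = a * t * (a : G)⁻¹ := fun a t => rfl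
  have hfaith : FaithfulSMul A T := by
    constructor
    intro a b hab
    have h1 : (b : G)⁻¹ * a ∈ centralizer (T : Set G) := by
      rw [Subgroup.mem_centralizer_iff]
      intro t ht
      have h2 : (a : G) * t * (a : G)⁻¹ = b * t * (b : G)⁻¹ := by
        have := congrArg (Subtype.val) (hab ⟨t, ht⟩)
        rwa [hsm, hsm] at this
      have h3 : (a : G) * t = b * t * (b : G)⁻¹ * a := by rw [← h2]; group
      rw [mul_assoc, h3]; group
    rw [h.cent, Subgroup.mem_bot] at h1
    exact Subtype.ext (inv_mul_eq_one.1 h1).symm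
  have hnil : Group.IsNilpotent A := by
    let _ : CommGroup A :=
      { (inferInstance : Group A) with mul_comm := fun a b => Subtype.ext (hAcomm a a.2 b b.2) }
    exact CommGroup.isNilpotent
  refine hTns (hfpf A hnil fun t ht => ?_)
  have h1 : (t : G) ∈ C := by
    refine ⟨?_, t.2⟩
    change (t : G) ∈ centralizer (A : Set G)
    rw [Subgroup.mem_centralizer_iff]
    intro a ha
    have h2 := congrArg Subtype.val (ht ⟨a, ha⟩)
    rw [hsm] at h2
    exact mul_inv_eq_iff_eq_mul.1 h2
  rw [hCbot, Subgroup.mem_bot] at h1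
  exact Subtype.ext h1

end Ex

end Cfsg.Agent.H454.Reg
end
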